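import Groth.Agent.FlatStage.Main

/-!
# A given base change to a stage agrees with the chosen one
-/

set_option autoImplicit false
set_option backward.isDefEq.respectTransparency false
set_option backward.defeqAttrib.useBackward true
set_option linter.style.haveILetI false

universe u

open CategoryTheory CategoryTheory.Limits AlgebraicGeometry

noncomputable section

namespace Groth.Agent.FlatStage

variable {I : Type u} [SmallCategory I] (D : I ⥤ Scheme.{u}) (i₀ : I)
  {X₀ Y₀ : Scheme.{u}} (f₀ : X₀ ⟶ Y₀) (g₀ : Y₀ ⟶ D.obj i₀)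

/-- The comparison of a given stage with the chosen stage. -/
lemma exists_comparison (k : Over i₀) {Xi Yi : Scheme.{u}} {fi : Xi ⟶ Yi} {gi : Yi ⟶ D.obj k.left}
    {pY : Yi ⟶ Y₀} {pX : Xi ⟶ X₀} (h1 : IsPullback pY gi g₀ (D.map k.hom))
    (h2 : IsPullback pX fi f₀ pY) :
    ∃ (eX : Xi ≅ (AffLim.baseChange D i₀ (f₀ ≫ g₀)).obj k)
      (eY : Yi ≅ (AffLim.baseChange D i₀ g₀).obj k),
      eX.hom ≫ pullback.fst _ _ = pX ∧ eX.hom ≫ pullback.snd _ _ = fi ≫ gi ∧
      IsPullback eX.hom fi ((AffLim.baseChangeMap D i₀ f₀ g₀).app k) eY.hom ∧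
      IsPullback eX.inv ((AffLim.baseChangeMap D i₀ f₀ g₀).app k) fi eY.inv := by
  let h := h2.paste_vert h1
  have w : h.isoPullback.hom ≫ (AffLim.baseChangeMap D i₀ f₀ g₀).app k =
      fi ≫ h1.isoPullback.hom := by
    apply pullback.hom_ext
    · simp only [AffLim.baseChangeMap, pullback.map, Category.assoc, pullback.lift_fst,
        IsPullback.isoPullback_hom_fst]
      rw [← Category.assoc, IsPullback.isoPullback_hom_fst]
      exact h2.w
    · simp only [AffLim.baseChangeMap, pullback.map, Category.assoc, pullback.lift_snd,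
        IsPullback.isoPullback_hom_snd, Category.comp_id]
  refine ⟨h.isoPullback, h1.isoPullback, h.isoPullback_hom_fst, h.isoPullback_hom_snd, ?_, ?_⟩
  · exact IsPullback.of_horiz_isIso ⟨w⟩
  · exact IsPullback.of_horiz_isIso ⟨by rw [Iso.inv_comp_eq, ← Category.assoc, w, Category.assoc,
      Iso.hom_inv_id, Category.comp_id]⟩

end Groth.Agent.FlatStage

end
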