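import Groth.Agent.FlatStage.Alg
import Groth.Agent.PullbackMod.Flat
import Groth.Agent.PullbackMod.FibreLocus
import Groth.Agent.PullbackMod.Props
import Groth.Agent.FlatLocus.ModFlat
import Groth.Agent.AffLim.DescendQF

/-!
# Flatness at a point of a cofiltered limit holds at some stage
-/

set_option autoImplicit false
set_option backward.isDefEq.respectTransparency false
set_option backward.defeqAttrib.useBackward true
set_option linter.style.haveILetI false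
set_option linter.unusedSectionVars false

universe u

open CategoryTheory CategoryTheory.Limits AlgebraicGeometry TopologicalSpace Opposite
open Groth.Agent

noncomputable section

namespace Groth.Agent.FlatStage

variable {I : Type u} [SmallCategory I] (D : I ⥤ Scheme.{u}) (c : Cone D) (i₀ : I)
  {Y₀ : Scheme.{u}} (g₀ : Y₀ ⟶ D.obj i₀) {Y : Scheme.{u}} {g : Y ⟶ c.pt} {qY : Y ⟶ Y₀}

/-- The projection from a given base change to a stage. -/
def vMap (hY : IsPullback qY g g₀ (c.π.app i₀)) (k : Over i₀) :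
    Y ⟶ (AffLim.baseChange D i₀ g₀).obj k :=
  pullback.lift qY (g ≫ c.π.app k.left) (by rw [Category.assoc, c.w]; exact hY.w)

variable (hY : IsPullback qY g g₀ (c.π.app i₀))

@[reassoc (attr := simp)]
lemma vMap_fst (k : Over i₀) : vMap D c i₀ g₀ hY k ≫ pullback.fst g₀ (D.map k.hom) = qY :=
  pullback.lift_fst _ _ _

@[reassoc (attr := simp)]
lemma vMap_snd (k : Over i₀) :
    vMap D c i₀ g₀ hY k ≫ pullback.snd g₀ (D.map k.hom) = g ≫ c.π.app k.left :=
  pullback.lift_snd _ _ _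

lemma vMap_eq (k : Over i₀) :
    vMap D c i₀ g₀ hY k = hY.isoPullback.hom ≫ (AffLim.baseChangeCone D c i₀ g₀).π.app k := by
  apply pullback.hom_ext <;> simp [AffLim.baseChangeCone]

lemma vMap_map {l k : Over i₀} (a : l ⟶ k) :
    vMap D c i₀ g₀ hY l ≫ (AffLim.baseChange D i₀ g₀).map a = vMap D c i₀ g₀ hY k := by
  rw [vMap_eq, vMap_eq, Category.assoc, Cone.w]

/-- A base change as a cone over the system of base changes. -/
def vCone : Cone (AffLim.baseChange D i₀ g₀) where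
  pt := Y
  π :=
    { app := vMap D c i₀ g₀ hY
      naturality := fun l k a => (Category.id_comp _).trans (vMap_map D c i₀ g₀ hY a).symm }

variable [IsCofiltered I]

lemma nonempty_isLimit_vCone (hc : IsLimit c) : Nonempty (IsLimit (vCone D c i₀ g₀ hY)) :=
  ⟨(AffLim.nonempty_isLimit_baseChangeCone D c hc i₀ g₀).some.ofIsoLimit
    (Cone.ext hY.isoPullback.symm fun k => by
      show _ = hY.isoPullback.inv ≫ vMap D c i₀ g₀ hY k
      rw [vMap_eq, Iso.inv_hom_id_assoc])⟩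

variable [∀ {i j} (f : i ⟶ j), IsAffineHom (D.map f)] (hc : IsLimit c)
  {X₀ : Scheme.{u}} (f₀ : X₀ ⟶ Y₀) {X : Scheme.{u}} {f : X ⟶ Y} {qX : X ⟶ X₀}
  (hX : IsPullback qX f f₀ qY)

omit [IsCofiltered I] [∀ {i j} (f : i ⟶ j), IsAffineHom (D.map f)] in
lemma xMap_comp (k : Over i₀) :
    vMap D c i₀ (f₀ ≫ g₀) (hX.paste_vert hY) k ≫ (AffLim.baseChangeMap D i₀ f₀ g₀).app k =
      f ≫ vMap D c i₀ g₀ hY k := by
  apply pullback.hom_ext <;> simp [AffLim.baseChangeMap, hX.w]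

omit [IsCofiltered I] [∀ {i j} (f : i ⟶ j), IsAffineHom (D.map f)] in
lemma fst_map {l k : Over i₀} (a : l ⟶ k) :
    (AffLim.baseChange D i₀ g₀).map a ≫ pullback.fst g₀ (D.map k.hom) =
      pullback.fst g₀ (D.map l.hom) := by
  simp [pullback.map]

include hc in
/-- Flatness at a point of the limit holds at some stage, which can be taken arbitrarily late. -/
theorem exists_isFlatOverAt [LocallyOfFinitePresentation f₀] (F₀ : X₀.Modules) [Coh.IsQCoh F₀]
    (hF₀ : CohB1.IsFP F₀) (x : X) (k₀ : Over i₀)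
    (h : FlatMod.IsFlatOverAt f ((Scheme.Modules.pullback qX).obj F₀) x) :
    ∃ (k : Over i₀) (_ : k ⟶ k₀), FlatMod.IsFlatOverAt ((AffLim.baseChangeMap D i₀ f₀ g₀).app k)
      ((Scheme.Modules.pullback (pullback.fst (f₀ ≫ g₀) (D.map k.hom))).obj F₀)
      (vMap D c i₀ (f₀ ≫ g₀) (hX.paste_vert hY) k x) := by
  obtain ⟨_, ⟨V : Y₀.Opens, (hV : IsAffineOpen V), rfl⟩, hxV, -⟩ :=
    Y₀.isBasis_affineOpens.exists_subset_of_mem_open (Set.mem_univ (qY (f x))) isOpen_univ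
  have hxV' : f₀ (qX x) ∈ V := by
    rwa [← Scheme.Hom.comp_apply, hX.w, Scheme.Hom.comp_apply]
  obtain ⟨_, ⟨W : X₀.Opens, (hW : IsAffineOpen W), rfl⟩, hxW, eWV⟩ :=
    X₀.isBasis_affineOpens.exists_subset_of_mem_open (a := qX x) (u := ↑(f₀ ⁻¹ᵁ V)) hxV'
      (f₀ ⁻¹ᵁ V).2
  have := isAffineHom_π_app D c hc i₀
  have : IsAffineHom qY := MorphismProperty.of_isPullback hY.flip inferInstance
  haveI hpk : ∀ k : Over i₀, IsAffineHom (pullback.fst g₀ (D.map k.hom)) := fun k =>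
    MorphismProperty.pullback_fst (P := @IsAffineHom) g₀ (D.map k.hom) inferInstance
  let E := AffLim.baseChange D i₀ g₀
  let cY := vCone D c i₀ g₀ hY
  obtain ⟨hcY⟩ := nonempty_isLimit_vCone D c i₀ g₀ hY hc
  let V' : ∀ k : Over i₀, (E.obj k).Opens := fun k => pullback.fst g₀ (D.map k.hom) ⁻¹ᵁ V
  let VR := qY ⁻¹ᵁ V
  have hV' : ∀ k, IsAffineOpen (V' k) := fun k => hV.preimage _
  have hVR : IsAffineOpen VR := hV.preimage qY
  have hle : ∀ k, VR ≤ vMap D c i₀ g₀ hY k ⁻¹ᵁ V' k := fun k => by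
    show qY ⁻¹ᵁ V ≤ _
    rw [← Scheme.Hom.comp_preimage, vMap_fst]
  have hlek : ∀ {l k : Over i₀} (a : l ⟶ k), V' l ≤ E.map a ⁻¹ᵁ V' k := fun {l k} a => by
    show pullback.fst g₀ (D.map l.hom) ⁻¹ᵁ V ≤ _
    rw [← Scheme.Hom.comp_preimage, fst_map]
  letI algR : Algebra Γ(Y₀, V) Γ(Y, VR) := (qY.appLE V VR le_rfl).hom.toAlgebra
  letI algk : ∀ k, Algebra Γ(Y₀, V) Γ(E.obj k, V' k) := fun k =>
    ((pullback.fst g₀ (D.map k.hom)).appLE V (V' k) le_rfl).hom.toAlgebra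
  let ρ : ∀ k, Γ(E.obj k, V' k) →ₐ[Γ(Y₀, V)] Γ(Y, VR) := fun k =>
    { toRingHom := ((vMap D c i₀ g₀ hY k).appLE (V' k) VR (hle k)).hom
      commutes' := fun a => by
        have key : (pullback.fst g₀ (D.map k.hom)).appLE V (V' k) le_rfl ≫
            (vMap D c i₀ g₀ hY k).appLE (V' k) VR (hle k) = qY.appLE V VR le_rfl := by
          rw [Scheme.Hom.appLE_comp_appLE]
          exact AffLim.appLE_congr_hom (vMap_fst D c i₀ g₀ hY k) _ _ _
        exact congr($key a) }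
  let τ : ∀ {l k : Over i₀} (_ : l ⟶ k), Γ(E.obj k, V' k) →ₐ[Γ(Y₀, V)] Γ(E.obj l, V' l) :=
    fun {l k} a =>
    { toRingHom := ((E.map a).appLE (V' k) (V' l) (hlek a)).hom
      commutes' := fun r => by
        have key : (pullback.fst g₀ (D.map k.hom)).appLE V (V' k) le_rfl ≫
            (E.map a).appLE (V' k) (V' l) (hlek a) =
            (pullback.fst g₀ (D.map l.hom)).appLE V (V' l) le_rfl := by
          rw [Scheme.Hom.appLE_comp_appLE]
          exact AffLim.appLE_congr_hom (fst_map D i₀ g₀ a) _ _ _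
        exact congr($key r) }
  have hcomm : ∀ {l k : Over i₀} (a : l ⟶ k) (s : Γ(E.obj k, V' k)), ρ l (τ a s) = ρ k s := by
    intro l k a s
    have key : (E.map a).appLE (V' k) (V' l) (hlek a) ≫
        (vMap D c i₀ g₀ hY l).appLE (V' l) VR (hle l) = (vMap D c i₀ g₀ hY k).appLE (V' k) VR (hle k) := by
      rw [Scheme.Hom.appLE_comp_appLE]
      exact AffLim.appLE_congr_hom (vMap_map D c i₀ g₀ hY a) _ _ _
    exact congr($key s)
  let Sys : PullbackMod.AlgSystem Γ(Y₀, V) Γ(Y, VR) :=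
    { J := Over i₀
      R := fun k => Γ(E.obj k, V' k)
      alg := algk
      ρ := ρ
      Hom := fun k l => l ⟶ k
      τ := fun {k l} a => τ a
      comm := fun {k l} a => AlgHom.ext (hcomm a)
      comp := fun {k l m} a b => ⟨b ≫ a, AlgHom.ext fun s => by
        have key : (E.map (b ≫ a)).appLE (V' k) (V' m) (hlek (b ≫ a)) =
            (E.map a).appLE (V' k) (V' l) (hlek a) ≫ (E.map b).appLE (V' l) (V' m) (hlek b) := by
          rw [Scheme.Hom.appLE_comp_appLE]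
          exact AffLim.appLE_congr_hom (E.map_comp b a) _ _ _
        exact congr($key s)⟩
      surj := fun k b => by
        have hk : cY.π.app k ⁻¹ᵁ V' k = VR := by
          show vMap D c i₀ g₀ hY k ⁻¹ᵁ (pullback.fst g₀ (D.map k.hom) ⁻¹ᵁ V) = qY ⁻¹ᵁ V
          rw [← Scheme.Hom.comp_preimage, vMap_fst]
        obtain ⟨l, a, e, t, ht⟩ := AffLim.exists_appLE_eq E cY hcY (hV' k)
          (Y.presheaf.map (homOfLE hk.le).op b)
        have hl : V' l ≤ E.map a ⁻¹ᵁ V' k := hlek a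
        refine ⟨l, a, (E.obj l).presheaf.map (homOfLE hl).op t, ?_⟩
        have key : (E.obj l).presheaf.map (homOfLE hl).op ≫
            (vMap D c i₀ g₀ hY l).appLE (V' l) VR (hle l) =
            (vMap D c i₀ g₀ hY l).appLE (E.map a ⁻¹ᵁ V' k) (cY.π.app k ⁻¹ᵁ V' k) e ≫
              Y.presheaf.map (homOfLE hk.ge).op := by
          rw [Scheme.Hom.map_appLE, Scheme.Hom.appLE_map]
        refine (congr($key t)).trans ?_
        refine (congrArg (Y.presheaf.map (homOfLE hk.ge).op) ht).trans ?_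
        rw [← CommRingCat.comp_apply, ← Functor.map_comp]
        exact (congrArg (fun φ => Y.presheaf.map φ b) (Subsingleton.elim _ (𝟙 _))).trans
          (congr($(Y.presheaf.map_id (op VR)) b))
      inj := fun k s hs => by
        have hk : cY.π.app k ⁻¹ᵁ V' k ≤ VR := by
          show vMap D c i₀ g₀ hY k ⁻¹ᵁ (pullback.fst g₀ (D.map k.hom) ⁻¹ᵁ V) ≤ qY ⁻¹ᵁ V
          rw [← Scheme.Hom.comp_preimage, vMap_fst]
        have h0 : (cY.π.app k).app (V' k) s = 0 := by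
          have key : (cY.π.app k).app (V' k) =
              (vMap D c i₀ g₀ hY k).appLE (V' k) VR (hle k) ≫ Y.presheaf.map (homOfLE hk).op := by
            rw [Scheme.Hom.appLE_map, Scheme.Hom.app_eq_appLE]
            rfl
          refine (congr($key s)).trans ?_
          exact (congrArg (Y.presheaf.map (homOfLE hk).op) hs).trans (map_zero _)
        obtain ⟨l, a, hl⟩ := exists_app_map_eq_zero_of_isLimit E cY hcY (hV' k).isCompact s h0
        refine ⟨l, a, ?_⟩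
        show (E.map a).appLE (V' k) (V' l) (hlek a) s = 0
        rw [Scheme.Hom.appLE, CommRingCat.comp_apply]
        exact (congrArg ((E.obj l).presheaf.map (homOfLE (hlek a)).op) hl).trans (map_zero _) }
  -- the affine pieces over the limit
  obtain ⟨hWR, hpoR⟩ := PullbackMod.isPushout_appLE hX hV hW hVR eWV le_rfl
  let WR := qX ⁻¹ᵁ W ⊓ f ⁻¹ᵁ VR
  have hxWR : x ∈ WR := ⟨hxW, hxV⟩
  let gR := (Scheme.Modules.pullback qX).obj F₀
  haveI : Coh.IsQCoh gR := PullbackMod.isQCoh_pullback qX F₀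
  rw [FlatLocus.isFlatOverAt_iff f gR hVR hWR inf_le_right x hxWR] at h
  letI : Algebra Γ(Y₀, V) Γ(X₀, W) := (f₀.appLE V W eWV).hom.toAlgebra
  haveI : Algebra.FinitePresentation Γ(Y₀, V) Γ(X₀, W) := f₀.finitePresentation_appLE hV hW eWV
  letI : Module Γ(Y₀, V) Γ(F₀, W) := Module.compHom _ (f₀.appLE V W eWV).hom
  haveI : IsScalarTower Γ(Y₀, V) Γ(X₀, W) Γ(F₀, W) := .of_algebraMap_smul fun _ _ => rfl
  haveI := QCohLib.finitePresentation_sections F₀ hF₀ hW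
  letI : Algebra Γ(X₀, W) Γ(X, WR) := (qX.appLE W WR inf_le_left).hom.toAlgebra
  letI : Algebra Γ(Y, VR) Γ(X, WR) := (f.appLE VR WR inf_le_right).hom.toAlgebra
  letI : Algebra Γ(Y₀, V) Γ(X, WR) :=
    ((qX.appLE W WR inf_le_left).hom.comp (f₀.appLE V W eWV).hom).toAlgebra
  haveI : IsScalarTower Γ(Y₀, V) Γ(X₀, W) Γ(X, WR) := .of_algebraMap_eq fun _ => rfl
  haveI : IsScalarTower Γ(Y₀, V) Γ(Y, VR) Γ(X, WR) := .of_algebraMap_eq' (by
      show ((f₀.appLE V W eWV) ≫ qX.appLE W _ inf_le_left).hom =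
        ((qY.appLE V VR le_rfl) ≫ f.appLE VR _ inf_le_right).hom
      simp only [Scheme.Hom.appLE_comp_appLE, hX.w])
  haveI : Algebra.IsPushout Γ(Y₀, V) Γ(Y, VR) Γ(X₀, W) Γ(X, WR) := hpoR
  letI : Module Γ(Y, VR) Γ(gR, WR) := Module.compHom _ (f.appLE VR WR inf_le_right).hom
  haveI : IsScalarTower Γ(Y, VR) Γ(X, WR) Γ(gR, WR) := .of_algebraMap_smul fun _ _ => rfl
  letI : Module Γ(X₀, W) Γ(gR, WR) := Module.compHom _ (qX.appLE W WR inf_le_left).hom
  haveI : IsScalarTower Γ(X₀, W) Γ(X, WR) Γ(gR, WR) := .of_algebraMap_smul fun _ _ => rfl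
  haveI := h
  obtain ⟨k, a, hk⟩ := exists_stage Sys k₀ Γ(X, WR) Γ(gR, WR)
    (PullbackMod.pullMapL qX F₀ inf_le_left)
    (PullbackMod.isBaseChange_pullMapL qX F₀ hW hWR inf_le_left) (hWR.primeIdealOf ⟨x, hxWR⟩)
  refine ⟨k, a, ?_⟩
  -- the affine pieces at the stage
  let Xk := (AffLim.baseChange D i₀ (f₀ ≫ g₀)).obj k
  let pX : Xk ⟶ X₀ := pullback.fst (f₀ ≫ g₀) (D.map k.hom)
  let fk : Xk ⟶ E.obj k := (AffLim.baseChangeMap D i₀ f₀ g₀).app k
  let vX := vMap D c i₀ (f₀ ≫ g₀) (hX.paste_vert hY) k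
  have hsq : IsPullback pX fk f₀ (pullback.fst g₀ (D.map k.hom)) :=
    AffLim.isPullback_baseChangeMap D i₀ f₀ g₀ k
  obtain ⟨hWk, hpok⟩ := PullbackMod.isPushout_appLE hsq hV hW (hV' k) eWV le_rfl
  let Wk : Xk.Opens := pX ⁻¹ᵁ W ⊓ fk ⁻¹ᵁ V' k
  have hvW : WR ≤ vX ⁻¹ᵁ Wk := by
    show WR ≤ vX ⁻¹ᵁ (pX ⁻¹ᵁ W) ⊓ vX ⁻¹ᵁ (fk ⁻¹ᵁ V' k)
    refine le_inf ?_ ?_
    · show _ ≤ vX ⁻¹ᵁ (pX ⁻¹ᵁ W)
      rw [← Scheme.Hom.comp_preimage, vMap_fst]
      exact inf_le_left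
    · show _ ≤ vX ⁻¹ᵁ (fk ⁻¹ᵁ V' k)
      rw [← Scheme.Hom.comp_preimage, xMap_comp D c i₀ g₀ hY f₀ hX k, Scheme.Hom.comp_preimage]
      exact inf_le_right.trans (f.preimage_mono (hle k))
  have hxWk : vX x ∈ Wk := hvW hxWR
  let gk := (Scheme.Modules.pullback pX).obj F₀
  haveI : Coh.IsQCoh gk := PullbackMod.isQCoh_pullback pX F₀
  rw [FlatLocus.isFlatOverAt_iff fk gk (hV' k) hWk inf_le_right (vX x) hxWk]
  letI : Algebra Γ(X₀, W) Γ(Xk, Wk) := (pX.appLE W Wk inf_le_left).hom.toAlgebra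
  letI : Algebra Γ(E.obj k, V' k) Γ(Xk, Wk) := (fk.appLE (V' k) Wk inf_le_right).hom.toAlgebra
  letI : Algebra Γ(Y₀, V) Γ(Xk, Wk) :=
    ((pX.appLE W Wk inf_le_left).hom.comp (f₀.appLE V W eWV).hom).toAlgebra
  haveI : IsScalarTower Γ(Y₀, V) Γ(X₀, W) Γ(Xk, Wk) := .of_algebraMap_eq fun _ => rfl
  haveI : IsScalarTower Γ(Y₀, V) Γ(E.obj k, V' k) Γ(Xk, Wk) := .of_algebraMap_eq' (by
      show ((f₀.appLE V W eWV) ≫ pX.appLE W _ inf_le_left).hom =
        (((pullback.fst g₀ (D.map k.hom)).appLE V (V' k) le_rfl) ≫ fk.appLE (V' k) _ inf_le_right).hom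
      simp only [Scheme.Hom.appLE_comp_appLE, hsq.w])
  haveI : Algebra.IsPushout Γ(Y₀, V) Γ(E.obj k, V' k) Γ(X₀, W) Γ(Xk, Wk) := hpok
  letI : Module Γ(E.obj k, V' k) Γ(gk, Wk) := Module.compHom _ (fk.appLE (V' k) Wk inf_le_right).hom
  haveI : IsScalarTower Γ(E.obj k, V' k) Γ(Xk, Wk) Γ(gk, Wk) := .of_algebraMap_smul fun _ _ => rfl
  letI : Module Γ(X₀, W) Γ(gk, Wk) := Module.compHom _ (pX.appLE W Wk inf_le_left).hom
  haveI : IsScalarTower Γ(X₀, W) Γ(Xk, Wk) Γ(gk, Wk) := .of_algebraMap_smul fun _ _ => rfl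
  have h1 : hWk.primeIdealOf ⟨vX x, hxWk⟩ =
      PrimeSpectrum.comap (vX.appLE Wk WR hvW).hom (hWR.primeIdealOf ⟨x, hxWR⟩) :=
    (IsAffineOpen.comap_primeIdealOf_appLE Wk hWk WR hWR hvW hxWR).symm
  rw [h1]
  refine hk Γ(Xk, Wk) Γ(gk, Wk) (PullbackMod.pullMapL pX F₀ inf_le_left)
    (PullbackMod.isBaseChange_pullMapL pX F₀ hW hWk inf_le_left) (vX.appLE Wk WR hvW).hom ?_ ?_
  · intro r
    have key : fk.appLE (V' k) Wk inf_le_right ≫ vX.appLE Wk WR hvW =
        (vMap D c i₀ g₀ hY k).appLE (V' k) VR (hle k) ≫ f.appLE VR WR inf_le_right := by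
      rw [Scheme.Hom.appLE_comp_appLE, Scheme.Hom.appLE_comp_appLE]
      exact AffLim.appLE_congr_hom (xMap_comp D c i₀ g₀ hY f₀ hX k) _ _ _
    exact congr($key r)
  · intro b
    have key : pX.appLE W Wk inf_le_left ≫ vX.appLE Wk WR hvW = qX.appLE W WR inf_le_left := by
      rw [Scheme.Hom.appLE_comp_appLE]
      exact AffLim.appLE_congr_hom (vMap_fst D c i₀ (f₀ ≫ g₀) (hX.paste_vert hY) k) _ _ _
    exact congr($key b)

end Groth.Agent.FlatStage

end
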