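import Groth.Agent.FlatStage.Main
import Groth.Agent.PointBC.Basic
import Groth.Agent.ProjCoh.PSData

/-!
# Flat, smooth, etale and unramified morphisms descend to a stage
-/

set_option autoImplicit false
set_option backward.isDefEq.respectTransparency false
set_option backward.defeqAttrib.useBackward true
set_option linter.style.haveILetI false
set_option linter.unusedSectionVars false

universe u

open CategoryTheory CategoryTheory.Limits AlgebraicGeometry TopologicalSpace Opposite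
open Groth.Agent

noncomputable section

namespace Groth.Agent.FlatStage

theorem isFlatOverAt_structureModule {X Y : Scheme.{u}} (f : X ⟶ Y) (x : X) :
    FlatMod.IsFlatOverAt f (Coh.structureModule X) x ↔ (f.stalkMap x).hom.Flat := by
  obtain ⟨_, ⟨V : Y.Opens, (hV : IsAffineOpen V), rfl⟩, hxV, -⟩ :=
    Y.isBasis_affineOpens.exists_subset_of_mem_open (Set.mem_univ (f x)) isOpen_univ
  obtain ⟨_, ⟨W : X.Opens, (hW : IsAffineOpen W), rfl⟩, hxW, hWV⟩ :=
    X.isBasis_affineOpens.exists_subset_of_mem_open (a := x) (u := ↑(f ⁻¹ᵁ V)) hxV (f ⁻¹ᵁ V).2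
  rw [FlatLocus.isFlatOverAt_iff f _ hV hW hWV x hxW, FlatLocus.flat_stalkMap_iff f hV hW hWV x hxW]
  rfl

theorem isFP_structureModule (X : Scheme.{u}) : CohB1.IsFP (Coh.structureModule X) := by
  refine PullbackMod.isFP_of_finitePresentation _ (fun W : X.affineOpens => W.1) (fun W => W.2)
    (iSup_affineOpens_eq_top X) fun W => ?_
  exact inferInstanceAs (Module.FinitePresentation Γ(X, W.1) Γ(X, W.1))

theorem isFlatOverAt_pullback_structureModule {X₀ X Y : Scheme.{u}} (q : X ⟶ X₀) (f : X ⟶ Y)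
    (x : X) :
    FlatMod.IsFlatOverAt f ((Scheme.Modules.pullback q).obj (Coh.structureModule X₀)) x ↔
      (f.stalkMap x).hom.Flat := by
  haveI := PullbackMod.isQCoh_pullback q (Coh.structureModule X₀)
  rw [← isFlatOverAt_structureModule f x]
  exact ⟨fun h => PullbackMod.isFlatOverAt_of_iso (ProjCoh.pullUnit q) f x h,
    fun h => PullbackMod.isFlatOverAt_of_iso (ProjCoh.pullUnit q).symm f x h⟩

theorem exists_smooth_nhd_of_baseChange {X Y X' Y' : Scheme.{u}} {f : X ⟶ Y} {g : Y' ⟶ Y}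
    {g' : X' ⟶ X} {f' : X' ⟶ Y'} (sq : IsPullback g' f' f g) [LocallyOfFinitePresentation f]
    (x' : X') (h : ∃ U : X'.Opens, x' ∈ U ∧ Smooth (U.ι ≫ f'))
    (hflat : (f.stalkMap (g' x')).hom.Flat) :
    ∃ U : X.Opens, g' x' ∈ U ∧ Smooth (U.ι ≫ f) := by
  let e := sq.isoPullback
  have he : pullback.fst f g (e.hom x') = g' x' := by
    rw [← Scheme.Hom.comp_apply, sq.isoPullback_hom_fst]
  have hsq : IsPullback e.inv (pullback.snd f g) f' (𝟙 Y') :=
    IsPullback.of_horiz_isIso ⟨by simp [e]⟩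
  have h' : ∃ U' : (pullback f g).Opens, e.hom x' ∈ U' ∧ Smooth (U'.ι ≫ pullback.snd f g) :=
    FlatLocus.exists_nhd_of_isPullback hsq (e.hom x') (by
      rwa [← Scheme.Hom.comp_apply, Iso.hom_inv_id])
  rw [← he] at hflat ⊢
  rw [FlatLocus.exists_smooth_nhd_iff]
  obtain ⟨w, hw, key⟩ := PointBC.exists_fibre_nhd f g (e.hom x')
  haveI : LocallyOfFinitePresentation (f.fiberToSpecResidueField (g (pullback.snd f g (e.hom x')))) :=
    MorphismProperty.pullback_snd _ _ inferInstance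
  rw [← hw] at hflat ⊢
  rw [FlatLocus.mem_smoothLocus_iff_fibre]
  exact ⟨hflat, (FlatLocus.stalkMap_of_baseChange_flat _ _ w
    (PointBC.flat_stalkMap_spec_field (Field.toIsField _) _ _)).1 (key _ h')⟩

theorem exists_formallyUnramified_nhd_of_baseChange {X Y X' Y' : Scheme.{u}} {f : X ⟶ Y}
    {g : Y' ⟶ Y} {g' : X' ⟶ X} {f' : X' ⟶ Y'} (sq : IsPullback g' f' f g)
    [LocallyOfFiniteType f]
    (x' : X') (h : ∃ U : X'.Opens, x' ∈ U ∧ FormallyUnramified (U.ι ≫ f')) :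
    ∃ U : X.Opens, g' x' ∈ U ∧ FormallyUnramified (U.ι ≫ f) := by
  let e := sq.isoPullback
  have he : pullback.fst f g (e.hom x') = g' x' := by
    rw [← Scheme.Hom.comp_apply, sq.isoPullback_hom_fst]
  have hsq : IsPullback e.inv (pullback.snd f g) f' (𝟙 Y') :=
    IsPullback.of_horiz_isIso ⟨by simp [e]⟩
  rw [← he]
  exact (PointBC.formallyUnramified_nhd_iff f g (e.hom x')).1
    (FlatLocus.exists_nhd_of_isPullback hsq (e.hom x') (by
      rwa [← Scheme.Hom.comp_apply, Iso.hom_inv_id]))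

variable {I : Type u} [SmallCategory I] (D : I ⥤ Scheme.{u}) (c : Cone D) (i₀ : I)
  {X₀ Y₀ : Scheme.{u}} (f₀ : X₀ ⟶ Y₀) (g₀ : Y₀ ⟶ D.obj i₀)
  {X Y : Scheme.{u}} {f : X ⟶ Y} {g : Y ⟶ c.pt} {qY : Y ⟶ Y₀} {qX : X ⟶ X₀}
  (hY : IsPullback qY g g₀ (c.π.app i₀)) (hX : IsPullback qX f f₀ qY)

lemma lfp_app [LocallyOfFinitePresentation f₀] (k : Over i₀) :
    LocallyOfFinitePresentation ((AffLim.baseChangeMap D i₀ f₀ g₀).app k) :=
  MorphismProperty.of_isPullback (AffLim.isPullback_baseChangeMap D i₀ f₀ g₀ k) inferInstance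

include hY hX in
/-- A property stable under base change passes from a given stage to the limit. -/
theorem prop_of_stage {P : MorphismProperty Scheme.{u}} [P.IsStableUnderBaseChange] {j : I}
    {φ : j ⟶ i₀} {Xj Yj : Scheme.{u}} {fj : Xj ⟶ Yj} {gj : Yj ⟶ D.obj j} {pY : Yj ⟶ Y₀}
    {pX : Xj ⟶ X₀} (h1 : IsPullback pY gj g₀ (D.map φ)) (h2 : IsPullback pX fj f₀ pY)
    (h : P fj) : P f := by
  let vY := h1.lift qY (g ≫ c.π.app j) (by rw [Category.assoc, c.w]; exact hY.w)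
  let vX := h2.lift qX (f ≫ vY) (by rw [Category.assoc, h1.lift_fst]; exact hX.w)
  exact MorphismProperty.of_isPullback (IsPullback.of_right
    (by rw [h2.lift_fst, h1.lift_fst]; exact hX) (h2.lift_snd _ _ _) h2 : IsPullback vX f fj vY) h

include hY hX in
/-- A property near a point passes from a given stage to the limit. -/
theorem nhd_of_stage {P : MorphismProperty Scheme.{u}} [P.IsStableUnderBaseChange] {j : I}
    {φ : j ⟶ i₀} {Xj Yj : Scheme.{u}} {fj : Xj ⟶ Yj} {gj : Yj ⟶ D.obj j} {pY : Yj ⟶ Y₀}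
    {pX : Xj ⟶ X₀} {rX : X ⟶ Xj} (h1 : IsPullback pY gj g₀ (D.map φ))
    (h2 : IsPullback pX fj f₀ pY) (e1 : rX ≫ pX = qX)
    (e2 : rX ≫ fj ≫ gj = f ≫ g ≫ c.π.app j) (x : X)
    (h : ∃ V : Xj.Opens, rX x ∈ V ∧ P (V.ι ≫ fj)) :
    ∃ U : X.Opens, x ∈ U ∧ P (U.ι ≫ f) := by
  let vY := h1.lift qY (g ≫ c.π.app j) (by rw [Category.assoc, c.w]; exact hY.w)
  have w : rX ≫ fj = f ≫ vY := by
    apply h1.hom_ext
    · rw [Category.assoc, Category.assoc, h1.lift_fst, ← h2.w, ← Category.assoc, e1]; exact hX.w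
    · rw [Category.assoc, Category.assoc, h1.lift_snd]; exact e2
  exact FlatLocus.exists_nhd_of_isPullback (IsPullback.of_right
    (by rw [e1, h1.lift_fst]; exact hX) w h2 : IsPullback rX f fj vY) x h

variable [IsCofiltered I] [∀ {i j} (f : i ⟶ j), IsAffineHom (D.map f)]

include hY hX in
/-- A smooth point of the limit is a smooth point of some stage. -/
theorem exists_smoothAt (hc : IsLimit c) [LocallyOfFinitePresentation f₀] (x : X) (k₀ : Over i₀)
    (h : ∃ U : X.Opens, x ∈ U ∧ Smooth (U.ι ≫ f)) :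
    ∃ (k : Over i₀) (_ : k ⟶ k₀),
      ∃ U : ((AffLim.baseChange D i₀ (f₀ ≫ g₀)).obj k).Opens,
        vMap D c i₀ (f₀ ≫ g₀) (hX.paste_vert hY) k x ∈ U ∧
          Smooth (U.ι ≫ (AffLim.baseChangeMap D i₀ f₀ g₀).app k) := by
  haveI : LocallyOfFinitePresentation f := MorphismProperty.of_isPullback hX inferInstance
  have hflat : FlatMod.IsFlatOverAt f
      ((Scheme.Modules.pullback qX).obj (Coh.structureModule X₀)) x := by
    rw [isFlatOverAt_pullback_structureModule]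
    exact FlatLocus.formallySmooth_stalk_of_flat f x
      ((FlatLocus.exists_smooth_nhd_iff f x).mp h)
  obtain ⟨k, a, hk⟩ := exists_isFlatOverAt D c i₀ g₀ hY hc f₀ hX _ (isFP_structureModule X₀)
    x k₀ hflat
  rw [isFlatOverAt_pullback_structureModule] at hk
  haveI := lfp_app D i₀ f₀ g₀ k
  exact ⟨k, a, exists_smooth_nhd_of_baseChange (isPullback_vMap D c i₀ f₀ g₀ hY hX k) x h hk⟩

include hY hX in
/-- An unramified point of the limit is unramified in every stage. -/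
theorem unramifiedAt_stage [LocallyOfFiniteType f₀] (x : X) (k : Over i₀)
    (h : ∃ U : X.Opens, x ∈ U ∧ FormallyUnramified (U.ι ≫ f)) :
    ∃ U : ((AffLim.baseChange D i₀ (f₀ ≫ g₀)).obj k).Opens,
      vMap D c i₀ (f₀ ≫ g₀) (hX.paste_vert hY) k x ∈ U ∧
        FormallyUnramified (U.ι ≫ (AffLim.baseChangeMap D i₀ f₀ g₀).app k) := by
  haveI : LocallyOfFiniteType ((AffLim.baseChangeMap D i₀ f₀ g₀).app k) :=
    MorphismProperty.of_isPullback (AffLim.isPullback_baseChangeMap D i₀ f₀ g₀ k) inferInstance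
  exact exists_formallyUnramified_nhd_of_baseChange (isPullback_vMap D c i₀ f₀ g₀ hY hX k) x h

include hY hX in
/-- An etale point of the limit is an etale point of some stage. -/
theorem exists_etaleAt (hc : IsLimit c) [LocallyOfFinitePresentation f₀] (x : X) (k₀ : Over i₀)
    (h : ∃ U : X.Opens, x ∈ U ∧ Etale (U.ι ≫ f)) :
    ∃ (k : Over i₀) (_ : k ⟶ k₀),
      ∃ U : ((AffLim.baseChange D i₀ (f₀ ≫ g₀)).obj k).Opens,
        vMap D c i₀ (f₀ ≫ g₀) (hX.paste_vert hY) k x ∈ U ∧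
          Etale (U.ι ≫ (AffLim.baseChangeMap D i₀ f₀ g₀).app k) := by
  obtain ⟨U, hx, hU⟩ := h
  obtain ⟨k, a, hk⟩ := exists_smoothAt D c i₀ f₀ g₀ hY hX hc x k₀ ⟨U, hx, inferInstance⟩
  haveI := lfp_app D i₀ f₀ g₀ k
  refine ⟨k, a, (FlatLocus.exists_etale_nhd_iff _ _).mpr ⟨?_, ?_⟩⟩
  · exact (FlatLocus.exists_smooth_nhd_iff _ _).mp hk
  · exact (FlatLocus.exists_formallyUnramified_nhd_iff _ _).mp
      (unramifiedAt_stage D c i₀ f₀ g₀ hY hX x k ⟨U, hx, inferInstance⟩)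

include hY hX in
/-- An open property of points, stable under base change, holding on the limit holds at a stage. -/
theorem exists_all_points (hc : IsLimit c) [CompactSpace X₀]
    (Q : ∀ (k : Over i₀), (AffLim.baseChange D i₀ (f₀ ≫ g₀)).obj k → Prop)
    (hopen : ∀ k, IsOpen {z | Q k z})
    (hmono : ∀ {l k : Over i₀} (a : l ⟶ k) z,
      Q k ((AffLim.baseChange D i₀ (f₀ ≫ g₀)).map a z) → Q l z)
    (hpt : ∀ x : X, ∃ k : Over i₀, Q k (vMap D c i₀ (f₀ ≫ g₀) (hX.paste_vert hY) k x)) :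
    ∃ k : Over i₀, ∀ z, Q k z := by
  obtain ⟨hcX⟩ := nonempty_isLimit_vCone D c i₀ (f₀ ≫ g₀) (hX.paste_vert hY) hc
  let o : Over i₀ := Over.mk (𝟙 i₀)
  obtain ⟨j, hj⟩ := PullbackMod.exists_all_of_open (AffLim.baseChange D i₀ (f₀ ≫ g₀))
    (vCone D c i₀ (f₀ ≫ g₀) (hX.paste_vert hY)) hcX o (fun j z => Q j.left z)
    (fun j => hopen j.left) (fun {j k} a z hz => hmono a.left z hz)
    (fun x => by
      obtain ⟨k, hk⟩ := hpt x
      obtain ⟨l, a, b, -⟩ := IsCofilteredOrEmpty.cone_objs k o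
      refine ⟨Over.mk b, hmono a _ ?_⟩
      show Q k ((AffLim.baseChange D i₀ (f₀ ≫ g₀)).map a
        (vMap D c i₀ (f₀ ≫ g₀) (hX.paste_vert hY) l x))
      rw [← Scheme.Hom.comp_apply, vMap_map]
      exact hk)
  exact ⟨j.left, hj⟩

include hY hX in
/-- A flat morphism over the limit is flat at some stage. -/
theorem exists_flat (hc : IsLimit c) [CompactSpace X₀] [LocallyOfFinitePresentation f₀] [Flat f] :
    ∃ k : Over i₀, Flat ((AffLim.baseChangeMap D i₀ f₀ g₀).app k) := by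
  obtain ⟨k, hk⟩ := exists_isFlatOver D c i₀ f₀ g₀ hY hX hc _ (isFP_structureModule X₀)
    (fun x => by rw [isFlatOverAt_pullback_structureModule]; exact Flat.stalkMap f x)
  exact ⟨k, Flat.of_stalkMap _ fun z =>
    (isFlatOverAt_pullback_structureModule _ _ _).mp (hk z)⟩

include hY hX in
/-- A smooth morphism over the limit is smooth at some stage. -/
theorem exists_smooth (hc : IsLimit c) [CompactSpace X₀] [LocallyOfFinitePresentation f₀]
    [Smooth f] : ∃ k : Over i₀, Smooth ((AffLim.baseChangeMap D i₀ f₀ g₀).app k) := by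
  obtain ⟨k, hk⟩ := exists_all_points D c i₀ f₀ g₀ hY hX hc
    (fun k z => ∃ U : ((AffLim.baseChange D i₀ (f₀ ≫ g₀)).obj k).Opens,
      z ∈ U ∧ Smooth (U.ι ≫ (AffLim.baseChangeMap D i₀ f₀ g₀).app k))
    (fun k => isOpen_iff_forall_mem_open.mpr fun z ⟨U, hz, hU⟩ =>
      ⟨U, fun z' hz' => ⟨U, hz', hU⟩, U.2, hz⟩)
    (fun {l k} a z hz =>
      FlatLocus.exists_nhd_of_isPullback (AffLim.isPullback_baseChangeMap_map D i₀ f₀ g₀ a) z hz)
    (fun x => by
      obtain ⟨k, -, hk⟩ := exists_smoothAt D c i₀ f₀ g₀ hY hX hc x (Over.mk (𝟙 i₀))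
        ⟨⊤, trivial, inferInstance⟩
      exact ⟨k, hk⟩)
  choose U hU hs using hk
  exact ⟨k, IsZariskiLocalAtSource.of_iSup_eq_top U
    (eq_top_iff.mpr fun z _ => TopologicalSpace.Opens.mem_iSup.mpr ⟨z, hU z⟩) hs⟩

include hY hX in
/-- An etale morphism over the limit is etale at some stage. -/
theorem exists_etale (hc : IsLimit c) [CompactSpace X₀] [LocallyOfFinitePresentation f₀]
    [Etale f] : ∃ k : Over i₀, Etale ((AffLim.baseChangeMap D i₀ f₀ g₀).app k) := by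
  obtain ⟨k, hk⟩ := exists_all_points D c i₀ f₀ g₀ hY hX hc
    (fun k z => ∃ U : ((AffLim.baseChange D i₀ (f₀ ≫ g₀)).obj k).Opens,
      z ∈ U ∧ Etale (U.ι ≫ (AffLim.baseChangeMap D i₀ f₀ g₀).app k))
    (fun k => isOpen_iff_forall_mem_open.mpr fun z ⟨U, hz, hU⟩ =>
      ⟨U, fun z' hz' => ⟨U, hz', hU⟩, U.2, hz⟩)
    (fun {l k} a z hz =>
      FlatLocus.exists_nhd_of_isPullback (AffLim.isPullback_baseChangeMap_map D i₀ f₀ g₀ a) z hz)
    (fun x => by
      obtain ⟨k, -, hk⟩ := exists_etaleAt D c i₀ f₀ g₀ hY hX hc x (Over.mk (𝟙 i₀))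
        ⟨⊤, trivial, inferInstance⟩
      exact ⟨k, hk⟩)
  choose U hU hs using hk
  exact ⟨k, IsZariskiLocalAtSource.of_iSup_eq_top U
    (eq_top_iff.mpr fun z _ => TopologicalSpace.Opens.mem_iSup.mpr ⟨z, hU z⟩) hs⟩

end Groth.Agent.FlatStage

end
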