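import Groth.Agent.FlatStage.Smooth
import Groth.Agent.CILib.CIBaseChange
import Mathlib

/-!
# Syntomic morphisms descend to a stage
-/

set_option autoImplicit false
set_option backward.isDefEq.respectTransparency false
set_option backward.defeqAttrib.useBackward true
set_option linter.style.haveILetI false
set_option linter.unusedSectionVars false

universe u

open CategoryTheory CategoryTheory.Limits AlgebraicGeometry TopologicalSpace Opposite
open Groth.Agent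

noncomputable section

namespace Groth.Agent.FlatStage

theorem exists_syntMor_nhd {X S : Scheme.{u}} (f : X ⟶ S) (x : X) (h : Synt.IsSyntomicAt f x) :
    ∃ U : X.Opens, x ∈ U ∧ CILib.SyntMor (U.ι ≫ f) := by
  obtain ⟨U, V, e, hx, hs⟩ := h
  refine ⟨U.1, hx, ?_⟩
  rw [HasRingHomProperty.iff_exists_appLE (P := @CILib.SyntMor) CILib.isSyntomicHom_sourceAway]
  intro y
  haveI : IsAffine U.1.toScheme := U.2
  have htop : (⊤ : U.1.toScheme.Opens) ≤ U.1.ι ⁻¹ᵁ U.1 := U.1.ι_preimage_self.ge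
  refine ⟨V, ⟨⊤, isAffineOpen_top _⟩, trivial, fun z _ => e (U.1.ι_preimage_self.ge (show z ∈ ⊤ from trivial)), ?_⟩
  rw [← Scheme.Hom.appLE_comp_appLE U.1.ι f V.1 U.1 ⊤ e htop]
  haveI : IsIso (U.1.ι.appLE U.1 ⊤ htop) := by
    rw [Scheme.Opens.ι_appLE]
    haveI : IsIso ((homOfLE (show U.1.ι ''ᵁ (⊤ : U.1.toScheme.Opens) ≤ U.1 from
        (Scheme.Opens.ι_image_top _).le)) : U.1.ι ''ᵁ ⊤ ⟶ U.1) :=
      ⟨homOfLE (Scheme.Opens.ι_image_top _).ge, Subsingleton.elim _ _, Subsingleton.elim _ _⟩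
    infer_instance
  rw [CommRingCat.hom_comp, CILib.isSyntomicHom_propertyIsLocal.respectsIso.cancel_right_isIso]
  letI := (f.appLE V.1 U.1 e).hom.toAlgebra
  exact CILib.isSyntomicHom_algebraMap.2 hs

variable {I : Type u} [SmallCategory I] (D : I ⥤ Scheme.{u}) (c : Cone D) (i₀ : I)
  {X₀ Y₀ : Scheme.{u}} (f₀ : X₀ ⟶ Y₀) (g₀ : Y₀ ⟶ D.obj i₀)
  {X Y : Scheme.{u}} {f : X ⟶ Y} {g : Y ⟶ c.pt} {qY : Y ⟶ Y₀} {qX : X ⟶ X₀}
  (hY : IsPullback qY g g₀ (c.π.app i₀)) (hX : IsPullback qX f f₀ qY)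

variable [IsCofiltered I] [∀ {i j} (f : i ⟶ j), IsAffineHom (D.map f)]

include hY hX in
/-- A syntomic morphism over the limit is syntomic at some stage. -/
theorem exists_syntomic (hc : IsLimit c) [CompactSpace X₀] [LocallyOfFinitePresentation f₀]
    (hf : Synt.IsSyntomicMor f) : ∃ k : Over i₀, Synt.IsSyntomicMor ((AffLim.baseChangeMap D i₀ f₀ g₀).app k) := by
  haveI : Flat f := CILib.flat_of_isSyntomicMor f hf
  haveI : LocallyOfFinitePresentation f := MorphismProperty.of_isPullback hX inferInstance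
  obtain ⟨k₁, hk₁⟩ := exists_flat D c i₀ f₀ g₀ hY hX hc
  obtain ⟨k, hk⟩ := exists_all_points D c i₀ f₀ g₀ hY hX hc
    (fun k z => ∃ U : ((AffLim.baseChange D i₀ (f₀ ≫ g₀)).obj k).Opens,
      z ∈ U ∧ CILib.SyntMor (U.ι ≫ (AffLim.baseChangeMap D i₀ f₀ g₀).app k))
    (fun k => isOpen_iff_forall_mem_open.mpr fun z ⟨U, hz, hU⟩ =>
      ⟨U, fun z' hz' => ⟨U, hz', hU⟩, U.2, hz⟩)
    (fun {l k} a z hz =>
      FlatLocus.exists_nhd_of_isPullback (AffLim.isPullback_baseChangeMap_map D i₀ f₀ g₀ a) z hz)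
    (fun x => by
      haveI := lfp_app D i₀ f₀ g₀ k₁
      haveI := hk₁
      refine ⟨k₁, exists_syntMor_nhd _ _ ?_⟩
      rw [CILib.isSyntomicAt_iff_isCompleteIntersection,
        CILib.isCompleteIntersection_fiberStalk_iff (isPullback_vMap D c i₀ f₀ g₀ hY hX k₁) x,
        ← CILib.isSyntomicAt_iff_isCompleteIntersection]
      exact hf x)
  choose U hU hs using hk
  exact ⟨k, (CILib.syntMor_iff _).1 (IsZariskiLocalAtSource.of_iSup_eq_top (P := @CILib.SyntMor) U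
    (eq_top_iff.mpr fun z _ => TopologicalSpace.Opens.mem_iSup.mpr ⟨z, hU z⟩) hs)⟩

end Groth.Agent.FlatStage

end
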