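import Groth.Agent.FlatStage.Alg
import Groth.Agent.PullbackMod.ColimTensor
import Mathlib.RingTheory.Flat.Localization
import Groth.Prelude.Def_FlatCA

/-!
# Flatness of a module over a directed system of base rings descends to a stage
-/

set_option autoImplicit false
set_option linter.style.haveILetI false

universe u

open TensorProduct Groth.Agent.GenFree Groth.Agent.FlatLocus

noncomputable section

namespace Groth.Agent.FlatStage

attribute [local instance] Algebra.TensorProduct.rightAlgebra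

theorem flat_localizedModule' {A B E : Type u} [CommRing A] [CommRing B] [Algebra A B]
    [AddCommGroup E] [Module B E] [Module A E] [IsScalarTower A B E] [Module.Flat A E]
    (S : Submonoid B) : Module.Flat A (LocalizedModule S E) := by
  let g := LocalizedModule.mkLinearMap S E
  rw [Module.Flat.iff_lTensor_injective']
  intro I
  have h0 : Function.Injective (AlgebraTensorModule.lTensor B E I.subtype) :=
    Module.Flat.lTensor_preserves_injective_linearMap I.subtype Subtype.val_injective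
  have h1 := IsLocalizedModule.map_injective S
    (AlgebraTensorModule.rTensor A I g) (AlgebraTensorModule.rTensor A A g)
    (AlgebraTensorModule.lTensor B E I.subtype) h0
  simpa [IsLocalizedModule.map_lTensor] using h1

section

variable {A : Type u} [CommRing A] (B : Type u) [CommRing B] [Algebra A B]
  (M : Type u) [AddCommGroup M] [Module B M] [Module A M] [IsScalarTower A B M]

/-- The flat locus of the base change of `M` to `R`. -/
def locus (R : Type u) [CommRing R] [Algebra A R] : Set (PrimeSpectrum (R ⊗[A] B)) :=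
  {p | Module.Flat R (LocalizedModule p.asIdeal.primeCompl ((R ⊗[A] B) ⊗[B] M))}

variable {B M}

theorem flat_tensor_iff (R : Type u) [CommRing R] [Algebra A R] :
    Module.Flat R ((R ⊗[A] B) ⊗[B] M) ↔ Module.Flat R (R ⊗[A] M) :=
  Module.Flat.equiv_iff (Algebra.IsPushout.cancelBaseChange A R B (R ⊗[A] B) M)

theorem locus_eq_univ_of_flat (R : Type u) [CommRing R] [Algebra A R]
    (h : Module.Flat R (R ⊗[A] M)) : locus (A := A) B M R = Set.univ :=
  haveI := (flat_tensor_iff (B := B) R).mpr h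
  Set.eq_univ_of_forall fun _ => flat_localizedModule' _

theorem flat_of_locus_eq_univ (R : Type u) [CommRing R] [Algebra A R]
    (h : locus (A := A) B M R = Set.univ) : Module.Flat R (R ⊗[A] M) :=
  (flat_tensor_iff R).mp <| Module.flat_of_isLocalized_maximal (R ⊗[A] B) _
    (fun P _ => LocalizedModule P.primeCompl ((R ⊗[A] B) ⊗[B] M))
    (fun P _ => LocalizedModule.mkLinearMap _ _)
    (fun P _ => h.ge (Set.mem_univ (⟨P, inferInstance⟩ : PrimeSpectrum (R ⊗[A] B))))

variable [Algebra.FinitePresentation A B] [Module.FinitePresentation B M]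

theorem isOpen_locus (R : Type u) [CommRing R] [Algebra A R] : IsOpen (locus (A := A) B M R) :=
  isOpen_flat_locus (R := R) (S := R ⊗[A] B) (M := (R ⊗[A] B) ⊗[B] M)

/-- The flat locus is stable under base change. -/
theorem comap_locus_le {R R' : Type u} [CommRing R] [CommRing R'] [Algebra A R] [Algebra A R']
    (φ : R →ₐ[A] R') :
    PrimeSpectrum.comap (Algebra.TensorProduct.map φ (AlgHom.id A B)).toRingHom ⁻¹' locus B M R ⊆
      locus B M R' := by
  intro p hp
  obtain ⟨n, a, x, K, -, hflat⟩ := exists_presentation_baseChange (A := A) (B := B) (M := M)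
  letI : Algebra R R' := φ.toRingHom.toAlgebra
  haveI : IsScalarTower A R R' := .of_algebraMap_eq fun r => (φ.commutes r).symm
  have h := (hflat R (R ⊗[A] B) ((R ⊗[A] B) ⊗[B] M) (TensorProduct.mk B (R ⊗[A] B) M 1)
    (TensorProduct.isBaseChange B M _) _).mp hp
  refine (hflat R' (R' ⊗[A] B) ((R' ⊗[A] B) ⊗[B] M) (TensorProduct.mk B (R' ⊗[A] B) M 1)
    (TensorProduct.isBaseChange B M _) p).mpr ?_
  rw [← locN_locN R K]
  refine mem_flatSet_of_comap R _ _ ?_
  convert h using 1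
  simp only [← PrimeSpectrum.comap_comp_apply]
  congr 1
  refine MvPolynomial.ringHom_ext (fun r => ?_) fun i => ?_
  · simp [Algebra.TensorProduct.algebraMap_apply, RingHom.algebraMap_toAlgebra]
  · simp [Algebra.TensorProduct.algebraMap_apply, RingHom.algebraMap_toAlgebra]

variable {R : Type u} [CommRing R] [Algebra A R] (Sys : PullbackMod.AlgSystem A R)

theorem exists_ub (j₀ : Sys.J) (hdir : ∀ i j : Sys.J, ∃ k, Nonempty (Sys.Hom i k) ∧ Nonempty (Sys.Hom j k))
    (t : Finset Sys.J) : ∃ k, Nonempty (Sys.Hom j₀ k) ∧ ∀ i ∈ t, Nonempty (Sys.Hom i k) := by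
  classical
  induction t using Finset.induction with
  | empty =>
    obtain ⟨k, hk, -⟩ := hdir j₀ j₀
    exact ⟨k, hk, by simp⟩
  | @insert i t _ ih =>
    obtain ⟨k, ⟨g⟩, hk⟩ := ih
    obtain ⟨l, ⟨g₁⟩, ⟨g₂⟩⟩ := hdir k i
    refine ⟨l, ⟨(Sys.comp g g₁).choose⟩, fun i' hi' => ?_⟩
    rcases Finset.mem_insert.1 hi' with rfl | hi'
    · exact ⟨g₂⟩
    · obtain ⟨g'⟩ := hk i' hi'
      exact ⟨(Sys.comp g' g₁).choose⟩

include B in
/-- A module flat over the limit is flat over some stage. -/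
theorem exists_flat_stage (j₀ : Sys.J)
    (hdir : ∀ i j : Sys.J, ∃ k, Nonempty (Sys.Hom i k) ∧ Nonempty (Sys.Hom j k))
    (h : Module.Flat R (R ⊗[A] M)) :
    ∃ (k : Sys.J) (_ : Sys.Hom j₀ k), Module.Flat (Sys.R k) (Sys.R k ⊗[A] M) := by
  classical
  have hR := locus_eq_univ_of_flat (B := B) R h
  let β : ∀ k, Sys.R k ⊗[A] B →ₐ[A] R ⊗[A] B := fun k =>
    Algebra.TensorProduct.map (Sys.ρ k) (AlgHom.id A B)
  let T : ∀ {i k}, Sys.Hom i k → Sys.R i ⊗[A] B →ₐ[A] Sys.R k ⊗[A] B := fun f =>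
    Algebra.TensorProduct.map (Sys.τ f) (AlgHom.id A B)
  have hβT : ∀ {i k} (f : Sys.Hom i k) (z : Sys.R i ⊗[A] B), β k (T f z) = β i z := fun f z =>
    Sys.rho_tau f z
  have hpt : ∀ q : PrimeSpectrum (R ⊗[A] B), ∃ k, PrimeSpectrum.comap (β k).toRingHom q ∈
      locus B M (Sys.R k) := by
    intro q
    haveI : Module.Flat R (LocalizedModule q.asIdeal.primeCompl ((R ⊗[A] B) ⊗[B] M)) :=
      hR.ge (Set.mem_univ q)
    obtain ⟨k, -, hk⟩ := exists_stage Sys j₀ (R ⊗[A] B) ((R ⊗[A] B) ⊗[B] M)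
      (TensorProduct.mk B (R ⊗[A] B) M 1) (TensorProduct.isBaseChange B M _) q
    refine ⟨k, hk (Sys.R k ⊗[A] B) ((Sys.R k ⊗[A] B) ⊗[B] M) (TensorProduct.mk B _ M 1)
      (TensorProduct.isBaseChange B M _) (β k).toRingHom (fun r => ?_) (fun b => ?_)⟩
    · simp [β, Algebra.TensorProduct.algebraMap_apply]
    · simp [β, RingHom.algebraMap_toAlgebra]
  obtain ⟨t, ht⟩ := isCompact_univ.elim_finite_subcover
    (fun k => PrimeSpectrum.comap (β k).toRingHom ⁻¹' locus B M (Sys.R k))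
    (fun k => (isOpen_locus _).preimage (PrimeSpectrum.continuous_comap _))
    (fun q _ => Set.mem_iUnion.mpr (hpt q))
  obtain ⟨k, hk₀, hk⟩ := exists_ub Sys j₀ hdir t
  have hall : ∀ q, PrimeSpectrum.comap (β k).toRingHom q ∈ locus B M (Sys.R k) := by
    intro q
    obtain ⟨i, hi, hq⟩ : ∃ i ∈ t, PrimeSpectrum.comap (β i).toRingHom q ∈ locus B M (Sys.R i) := by
      simpa using ht (Set.mem_univ q)
    obtain ⟨f⟩ := hk i hi
    refine comap_locus_le (Sys.τ f) ?_
    show PrimeSpectrum.comap (T f).toRingHom _ ∈ locus B M (Sys.R i)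
    rw [← PrimeSpectrum.comap_comp_apply]
    have hc : (β k).toRingHom.comp (T f).toRingHom = (β i).toRingHom :=
      RingHom.ext fun z => hβT f z
    rw [hc]
    exact hq
  obtain ⟨J, hJ⟩ := (PrimeSpectrum.isClosed_iff_zeroLocus_ideal _).mp
    (isOpen_locus (A := A) (B := B) (M := M) (Sys.R k)).isClosed_compl
  have htop : Ideal.map (β k).toRingHom J = ⊤ := by
    by_contra hne
    obtain ⟨P, hP, hle⟩ := Ideal.exists_le_maximal _ hne
    have : PrimeSpectrum.comap (β k).toRingHom ⟨P, hP.isPrime⟩ ∈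
        PrimeSpectrum.zeroLocus (J : Set (Sys.R k ⊗[A] B)) :=
      fun x hx => hle (Ideal.mem_map_of_mem _ hx)
    rw [← hJ] at this
    exact this (hall _)
  have hmove : ∀ {l m} (g : Sys.Hom k l) (g' : Sys.Hom l m) (y : Sys.R l ⊗[A] B),
      y ∈ Ideal.map (T g).toRingHom J → ∀ g'', Sys.τ g'' = (Sys.τ g').comp (Sys.τ g) →
      T g' y ∈ Ideal.map (T g'').toRingHom J := by
    intro l m g g' y hy g'' hg''
    have hc : (T g').toRingHom.comp (T g).toRingHom = (T g'').toRingHom :=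
      RingHom.ext fun z => (Sys.refine_zero g g' z g'' hg'').symm
    rw [← hc, ← Ideal.map_map]
    exact Ideal.mem_map_of_mem _ hy
  have hspan : ∀ z ∈ Ideal.map (β k).toRingHom J, ∀ (l₀ : Sys.J) (g₀ : Sys.Hom k l₀),
      ∃ (l : Sys.J) (f : Sys.Hom l₀ l) (g : Sys.Hom k l) (_ : Sys.τ g = (Sys.τ f).comp (Sys.τ g₀))
      (y : Sys.R l ⊗[A] B), y ∈ Ideal.map (T g).toRingHom J ∧ β l y = z := by
    intro z hz
    induction hz using Submodule.span_induction with
    | mem x hx =>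
      obtain ⟨y, hy, rfl⟩ := hx
      intro l₀ g₀
      obtain ⟨l, f, -, -⟩ := Sys.surj l₀ 0
      obtain ⟨g, hg⟩ := Sys.comp g₀ f
      exact ⟨l, f, g, hg, T g y, Ideal.mem_map_of_mem _ hy, hβT g y⟩
    | zero =>
      intro l₀ g₀
      obtain ⟨l, f, -, -⟩ := Sys.surj l₀ 0
      obtain ⟨g, hg⟩ := Sys.comp g₀ f
      exact ⟨l, f, g, hg, 0, zero_mem _, map_zero _⟩
    | add x y _ _ hx hy =>
      intro l₀ g₀
      obtain ⟨l, f, g, hg, a, ha, rfl⟩ := hx l₀ g₀
      obtain ⟨m, f', g', hg', b, hb, rfl⟩ := hy l g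
      obtain ⟨e, he⟩ := Sys.comp f f'
      refine ⟨m, e, g', by rw [hg', hg, he, AlgHom.comp_assoc], T f' a + b,
        add_mem (hmove g f' a ha g' hg') hb, ?_⟩
      rw [map_add, hβT]
    | smul c x _ hx =>
      intro l₀ g₀
      obtain ⟨l, f, g, hg, a, ha, rfl⟩ := hx l₀ g₀
      obtain ⟨m, f', d, hd⟩ := Sys.exists_lift (M := B) l c
      obtain ⟨e, he⟩ := Sys.comp f f'
      obtain ⟨g', hg'⟩ := Sys.comp g f'
      refine ⟨m, e, g', by rw [hg', hg, he, AlgHom.comp_assoc], d * T f' a,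
        Ideal.mul_mem_left _ _ (hmove g f' a ha g' hg'), ?_⟩
      rw [map_mul, hβT, smul_eq_mul]
      exact congrArg (· * _) hd
  obtain ⟨l₀, g₀, -, -⟩ := Sys.surj k 0
  obtain ⟨l, -, g, -, y, hy, hy1⟩ := hspan 1 (htop.ge Submodule.mem_top) l₀ g₀
  obtain ⟨m, f, hf⟩ := Sys.exists_zero (M := B) l (y - 1) (by
    show β l (y - 1) = 0
    rw [map_sub, hy1, map_one, sub_self])
  obtain ⟨e, he⟩ := Sys.comp g f
  obtain ⟨g₁⟩ := hk₀
  obtain ⟨e₁, -⟩ := Sys.comp g₁ e
  refine ⟨m, e₁, flat_of_locus_eq_univ (B := B) (Sys.R m) (Set.eq_univ_of_forall fun p => ?_)⟩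
  refine comap_locus_le (Sys.τ e) (Set.not_notMem.mp fun hp => ?_)
  have hp' : PrimeSpectrum.comap (T e).toRingHom p ∈
      PrimeSpectrum.zeroLocus (J : Set (Sys.R k ⊗[A] B)) := hJ ▸ hp
  have h1 : T f y = 1 := sub_eq_zero.mp (by
    rw [← map_one (T f), ← map_sub]
    exact hf)
  have h2 : (1 : Sys.R m ⊗[A] B) ∈ p.asIdeal :=
    Ideal.map_le_iff_le_comap.mpr hp' (h1 ▸ hmove g f y hy e he)
  exact p.2.ne_top ((Ideal.eq_top_iff_one _).mpr h2)

end

section Directed

variable {A : Type u} [CommRing A] {ι : Type u} [Preorder ι] {G : ι → Type u} [∀ i, CommRing (G i)]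
  [∀ i, Algebra A (G i)] {g : ∀ i j, i ≤ j → G i →ₐ[A] G j}
  {R : Type u} [CommRing R] [Algebra A R] [∀ i, Algebra (G i) R] [∀ i, IsScalarTower A (G i) R]

/-- The system of algebras of a directed colimit of rings. -/
def sysOfDirected (h : FlatCA.IsDirectedColimitRing G (fun i j h => (g i j h).toRingHom) R) :
    PullbackMod.AlgSystem A R where
  J := ι
  R := G
  ρ i := IsScalarTower.toAlgHom A (G i) R
  Hom i j := ULift (PLift (i ≤ j))
  τ f := g _ _ f.down.down
  comm {j k} f := AlgHom.ext fun x => RingHom.congr_fun (h.2.2.2.2.1 j k f.down.down) x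
  comp {j k l} f f' := ⟨⟨⟨f.down.down.trans f'.down.down⟩⟩,
    AlgHom.ext fun x => (RingHom.congr_fun (h.2.2.2.1 j k l f.down.down f'.down.down) x).symm⟩
  surj j b := by
    obtain ⟨i, x, rfl⟩ := h.2.2.2.2.2.1 b
    obtain ⟨k, hjk, hik⟩ := h.1.directed j i
    exact ⟨k, ⟨⟨hjk⟩⟩, g i k hik x, RingHom.congr_fun (h.2.2.2.2.1 i k hik) x⟩
  inj j a ha := by
    obtain ⟨k, hk, hk0⟩ := h.2.2.2.2.2.2 j a ha
    exact ⟨k, ⟨⟨hk⟩⟩, hk0⟩

theorem sysOfDirected_dir (h : FlatCA.IsDirectedColimitRing G (fun i j h => (g i j h).toRingHom) R) :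
    ∀ i j : (sysOfDirected h).J, ∃ k, Nonempty ((sysOfDirected h).Hom i k) ∧
      Nonempty ((sysOfDirected h).Hom j k) := fun i j =>
  have ⟨k, hik, hjk⟩ := h.1.directed i j
  ⟨k, ⟨⟨⟨hik⟩⟩⟩, ⟨⟨⟨hjk⟩⟩⟩⟩

/-- Flatness over a stage gives flatness over any larger ring. -/
theorem flat_of_stage (R' : Type u) [CommRing R'] [Algebra A R'] [Algebra R' R]
    [IsScalarTower A R' R] (M : Type u) [AddCommGroup M] [Module A M]
    [Module.Flat R' (R' ⊗[A] M)] : Module.Flat R (R ⊗[A] M) :=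
  Module.Flat.of_linearEquiv (AlgebraTensorModule.cancelBaseChange A R' R R M).symm

end Directed

end Groth.Agent.FlatStage
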