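import Groth.Agent.FlatLocus.Main
import Groth.Agent.FibreDepth.Descent
import Groth.Agent.PullbackMod.ColimTensor

/-!
# Flatness at a prime descends to a stage of a directed system of base rings
-/

set_option autoImplicit false
set_option linter.style.haveILetI false

universe u

open MvPolynomial TensorProduct Groth.Agent.GenFree Groth.Agent.FlatLocus

namespace Groth.Agent.FlatStage

/-- Flatness of a localization read off a presentation. -/
theorem flat_iff_flatSet {R S M : Type u} [CommRing R] [CommRing S] [Algebra R S]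
    [AddCommGroup M] [Module S M] [Module R M] [IsScalarTower R S M] {n a : ℕ}
    (π : MvPolynomial (Fin n) R →ₐ[R] S) (hπ : Function.Surjective π)
    (K : Submodule (MvPolynomial (Fin n) R) (FreeMod R a n))
    (e : letI := Module.compHom M π.toRingHom
      M ≃ₗ[MvPolynomial (Fin n) R] FreeMod R a n ⧸ K) (q : PrimeSpectrum S) :
    Module.Flat R (LocalizedModule q.asIdeal.primeCompl M) ↔
      PrimeSpectrum.comap π.toRingHom q ∈ flatSet K := by
  letI : Algebra (MvPolynomial (Fin n) R) S := π.toRingHom.toAlgebra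
  haveI : IsScalarTower R (MvPolynomial (Fin n) R) S :=
    .of_algebraMap_eq fun r => (π.commutes r).symm
  letI : Module (MvPolynomial (Fin n) R) M := Module.compHom M π.toRingHom
  haveI : IsScalarTower (MvPolynomial (Fin n) R) S M := .of_algebraMap_smul fun _ _ => rfl
  haveI : IsScalarTower R (MvPolynomial (Fin n) R) M := .of_algebraMap_smul fun r m => by
    show π (algebraMap R (MvPolynomial (Fin n) R) r) • m = r • m
    rw [π.commutes, algebraMap_smul]
  let P := PrimeSpectrum.comap π.toRingHom q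
  have hP : Algebra.algebraMapSubmonoid S P.asIdeal.primeCompl = q.asIdeal.primeCompl := by
    ext x
    constructor
    · rintro ⟨y, hy, rfl⟩; exact hy
    · intro hx
      obtain ⟨y, rfl⟩ := hπ x
      exact ⟨y, hx, rfl⟩
  haveI : IsLocalizedModule (Algebra.algebraMapSubmonoid S P.asIdeal.primeCompl)
      (LocalizedModule.mkLinearMap q.asIdeal.primeCompl M) := by
    rw [hP]; infer_instance
  let g : M →ₗ[MvPolynomial (Fin n) R] LocalizedModule q.asIdeal.primeCompl M :=
    (LocalizedModule.mkLinearMap q.asIdeal.primeCompl M).restrictScalars _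
  haveI : IsLocalizedModule P.asIdeal.primeCompl g := IsLocalizedModule.restrictScalars _ _
  haveI : IsLocalizedModule P.asIdeal.primeCompl (g ∘ₗ e.symm.toLinearMap) :=
    IsLocalizedModule.of_linearEquiv_right _ _ _
  rw [mem_flatSet_iff]
  exact flat_iff_rel K _ (g ∘ₗ e.symm.toLinearMap)

variable {A B M : Type u} [CommRing A] [CommRing B] [Algebra A B] [AddCommGroup M] [Module B M]

/-- A presentation computing flatness after any extension of the base ring. -/
theorem exists_presentation_baseChange [Algebra.FinitePresentation A B] [Module A M]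
    [IsScalarTower A B M] [Module.FinitePresentation B M] :
    ∃ (n a : ℕ) (x : Fin n → B) (K : Submodule (MvPolynomial (Fin n) A) (FreeMod A a n)), K.FG ∧
      ∀ (A' B' M' : Type u) [CommRing A'] [CommRing B'] [Algebra A A'] [Algebra A' B'] [Algebra A B']
        [IsScalarTower A A' B'] [Algebra B B'] [IsScalarTower A B B'] [Algebra.IsPushout A A' B B']
        [AddCommGroup M'] [Module B' M'] [Module A' M'] [IsScalarTower A' B' M'] [Module B M']
        [IsScalarTower B B' M'] (f : M →ₗ[B] M') (_ : IsBaseChange B' f) (q : PrimeSpectrum B'),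
        Module.Flat A' (LocalizedModule q.asIdeal.primeCompl M') ↔
          PrimeSpectrum.comap (aeval (R := A') fun i => algebraMap B B' (x i)).toRingHom q ∈
            flatSet (locN A' K) := by
  obtain ⟨n, π, hπ, hker⟩ := Algebra.FinitePresentation.out (R := A) (A := B)
  letI : Algebra (MvPolynomial (Fin n) A) B := π.toRingHom.toAlgebra
  haveI : IsScalarTower A (MvPolynomial (Fin n) A) B :=
    .of_algebraMap_eq fun r => (π.commutes r).symm
  letI : Module (MvPolynomial (Fin n) A) M := Module.compHom M π.toRingHom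
  haveI : IsScalarTower (MvPolynomial (Fin n) A) B M := .of_algebraMap_smul fun _ _ => rfl
  haveI : IsScalarTower A (MvPolynomial (Fin n) A) M := .of_algebraMap_smul fun r m => by
    show π (algebraMap A (MvPolynomial (Fin n) A) r) • m = r • m
    rw [π.commutes, algebraMap_smul]
  haveI : Module.FinitePresentation (MvPolynomial (Fin n) A) B :=
    Module.finitePresentation_of_surjective (Algebra.linearMap (MvPolynomial (Fin n) A) B) hπ hker
  haveI : Module.FinitePresentation (MvPolynomial (Fin n) A) M :=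
    Module.FinitePresentation.trans (R := MvPolynomial (Fin n) A) (S := B) (M := M)
  obtain ⟨a, K, e, hK⟩ := Module.FinitePresentation.exists_fin (MvPolynomial (Fin n) A) M
  refine ⟨n, a, fun i => π (X i), K, hK, ?_⟩
  intro A' B' M' _ _ _ _ _ _ _ _ hpo _ _ _ _ _ _ f hf q
  letI : Algebra (MvPolynomial (Fin n) A) (MvPolynomial (Fin n) A') := MvPolynomial.algebraMvPolynomial
  let π' : MvPolynomial (Fin n) A' →ₐ[A'] B' := aeval fun i => algebraMap B B' (π (X i))
  letI : Algebra (MvPolynomial (Fin n) A') B' := π'.toRingHom.toAlgebra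
  haveI : IsScalarTower A' (MvPolynomial (Fin n) A') B' :=
    .of_algebraMap_eq fun r => (π'.commutes r).symm
  letI : Algebra (MvPolynomial (Fin n) A) B' :=
    ((algebraMap B B').comp (algebraMap (MvPolynomial (Fin n) A) B)).toAlgebra
  haveI : IsScalarTower (MvPolynomial (Fin n) A) B B' := .of_algebraMap_eq fun _ => rfl
  haveI : IsScalarTower A (MvPolynomial (Fin n) A) B' := .of_algebraMap_eq fun r => by
    rw [IsScalarTower.algebraMap_apply (MvPolynomial (Fin n) A) B B',
      ← IsScalarTower.algebraMap_apply A (MvPolynomial (Fin n) A) B, ← IsScalarTower.algebraMap_apply]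
  haveI : IsScalarTower (MvPolynomial (Fin n) A) (MvPolynomial (Fin n) A') B' := by
    refine .of_algebraMap_eq' (MvPolynomial.ringHom_ext (fun r => ?_) fun i => ?_)
    · simp only [RingHom.comp_apply]
      show algebraMap B B' (π (C r)) = π' (MvPolynomial.map (algebraMap A A') (C r))
      rw [map_C, show (C r : MvPolynomial (Fin n) A) = algebraMap A _ r from rfl, π.commutes,
        ← IsScalarTower.algebraMap_apply, show (C (algebraMap A A' r) : MvPolynomial (Fin n) A') =
          algebraMap A' _ (algebraMap A A' r) from rfl, π'.commutes, ← IsScalarTower.algebraMap_apply]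
    · show algebraMap B B' (π (X i)) = π' (MvPolynomial.map (algebraMap A A') (X i))
      rw [map_X, aeval_X]
  haveI : IsScalarTower A (MvPolynomial (Fin n) A) (MvPolynomial (Fin n) A') :=
    .of_algebraMap_eq fun r => (map_C (algebraMap A A') r).symm
  haveI : IsScalarTower A (MvPolynomial (Fin n) A') B' := .of_algebraMap_eq fun r => by
    show algebraMap A B' r = π' (algebraMap A (MvPolynomial (Fin n) A') r)
    rw [IsScalarTower.algebraMap_apply A A' (MvPolynomial (Fin n) A'), π'.commutes, ← IsScalarTower.algebraMap_apply]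
  haveI hsq : Algebra.IsPushout A A' (MvPolynomial (Fin n) A) (MvPolynomial (Fin n) A') := inferInstance
  haveI : Algebra.IsPushout A (MvPolynomial (Fin n) A) A' (MvPolynomial (Fin n) A') := hsq.symm
  haveI : Algebra.IsPushout (MvPolynomial (Fin n) A) (MvPolynomial (Fin n) A') B B' :=
    ((Algebra.IsPushout.comp_iff A (MvPolynomial (Fin n) A) A' (MvPolynomial (Fin n) A') (T := B)
      (T' := B')).mp hpo.symm).symm
  have hπ' : Function.Surjective π' := fun y => by
    have hy := (Algebra.IsPushout.out (R := MvPolynomial (Fin n) A) (S := MvPolynomial (Fin n) A')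
      (R' := B) (S' := B'))
    induction y using hy.inductionOn with
    | zero => exact ⟨0, map_zero _⟩
    | tmul b =>
      obtain ⟨p, rfl⟩ := hπ b
      exact ⟨algebraMap (MvPolynomial (Fin n) A) (MvPolynomial (Fin n) A') p,
        (IsScalarTower.algebraMap_apply (MvPolynomial (Fin n) A) (MvPolynomial (Fin n) A') B' p).symm⟩
    | smul r z hz =>
      obtain ⟨p, rfl⟩ := hz
      exact ⟨r * p, map_mul _ _ _⟩
    | add z w hz hw =>
      obtain ⟨p, rfl⟩ := hz
      obtain ⟨p', rfl⟩ := hw
      exact ⟨p + p', map_add _ _ _⟩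
  letI : Module (MvPolynomial (Fin n) A') M' := Module.compHom M' π'.toRingHom
  haveI : IsScalarTower (MvPolynomial (Fin n) A') B' M' := .of_algebraMap_smul fun _ _ => rfl
  obtain ⟨η⟩ := FibreDepth.nonempty_baseChange_quot (A₁ := A) (A := A') K
  let e₁ : (B' ⊗[B] M) ≃ₗ[MvPolynomial (Fin n) A'] M' := hf.equiv.restrictScalars _
  let e₂ : (B' ⊗[B] M) ≃ₗ[MvPolynomial (Fin n) A']
      MvPolynomial (Fin n) A' ⊗[MvPolynomial (Fin n) A] M :=
    Algebra.IsPushout.cancelBaseChange (MvPolynomial (Fin n) A) (MvPolynomial (Fin n) A') B B' M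
  let e₃ : MvPolynomial (Fin n) A' ⊗[MvPolynomial (Fin n) A] M ≃ₗ[MvPolynomial (Fin n) A']
      MvPolynomial (Fin n) A' ⊗[MvPolynomial (Fin n) A] (FreeMod A a n ⧸ K) :=
    AlgebraTensorModule.congr (LinearEquiv.refl _ _) e
  exact flat_iff_flatSet π' hπ' (locN A' K) (((e₁.symm.trans e₂).trans e₃).trans η) q

/-- Flatness at a prime of the limit holds at some stage. -/
theorem exists_stage {R : Type u} [CommRing R] [Algebra A R] (Sys : PullbackMod.AlgSystem A R)
    (j₀ : Sys.J) [Algebra.FinitePresentation A B] [Module A M] [IsScalarTower A B M]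
    [Module.FinitePresentation B M]
    (BR MR : Type u) [CommRing BR] [Algebra R BR] [Algebra A BR] [IsScalarTower A R BR] [Algebra B BR]
    [IsScalarTower A B BR] [Algebra.IsPushout A R B BR] [AddCommGroup MR] [Module BR MR]
    [Module R MR] [IsScalarTower R BR MR] [Module B MR] [IsScalarTower B BR MR]
    (fR : M →ₗ[B] MR) (hfR : IsBaseChange BR fR) (q : PrimeSpectrum BR)
    [Module.Flat R (LocalizedModule q.asIdeal.primeCompl MR)] :
    ∃ (k : Sys.J) (_ : Sys.Hom j₀ k), ∀ (B' M' : Type u) [CommRing B'] [Algebra (Sys.R k) B']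
      [Algebra A B'] [IsScalarTower A (Sys.R k) B'] [Algebra B B'] [IsScalarTower A B B']
      [Algebra.IsPushout A (Sys.R k) B B'] [AddCommGroup M'] [Module B' M'] [Module (Sys.R k) M']
      [IsScalarTower (Sys.R k) B' M'] [Module B M'] [IsScalarTower B B' M']
      (f : M →ₗ[B] M') (_ : IsBaseChange B' f) (β : B' →+* BR)
      (_ : ∀ r, β (algebraMap (Sys.R k) B' r) = algebraMap R BR (Sys.ρ k r))
      (_ : ∀ b, β (algebraMap B B' b) = algebraMap B BR b),
      Module.Flat (Sys.R k) (LocalizedModule (PrimeSpectrum.comap β q).asIdeal.primeCompl M') := by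
  classical
  obtain ⟨n, a, x, K, hK, hflat⟩ := exists_presentation_baseChange (A := A) (B := B) (M := M)
  let qR := PrimeSpectrum.comap (aeval (R := R) fun i => algebraMap B BR (x i)).toRingHom q
  have hqR : qR ∈ flatSet (locN R K) := (hflat R BR MR fR hfR q).mp ‹_›
  obtain ⟨S0, N0, hS0, hN0⟩ := exists_base K hK
  haveI := hS0
  rw [← hN0, locN_locN A N0] at hqR
  obtain ⟨S, hS, hqS⟩ := exists_subalgebra N0 qR (mem_flatSet_iff.mp hqR _)
  haveI : Algebra.FiniteType S0 S := (Subalgebra.fg_iff_finiteType S).1 hS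
  obtain ⟨m, π, hπ⟩ := Algebra.FiniteType.iff_quotient_mvPolynomial''.mp ‹Algebra.FiniteType S0 S›
  -- lift the generators
  have hgen : ∀ t : Finset (Fin m), ∃ (k : Sys.J) (_ : Sys.Hom j₀ k),
      ∀ i ∈ t, ∃ b : Sys.R k, Sys.ρ k b = (π (X i) : R) := by
    intro t
    induction t using Finset.induction with
    | empty =>
      obtain ⟨k, g, -, -⟩ := Sys.surj j₀ 0
      exact ⟨k, g, by simp⟩
    | @insert i t _ ih =>
      obtain ⟨k, g, hk⟩ := ih
      obtain ⟨l, g', b, hb⟩ := Sys.surj k (π (X i) : R)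
      obtain ⟨g'', -⟩ := Sys.comp g g'
      refine ⟨l, g'', fun i' hi' => ?_⟩
      rcases Finset.mem_insert.1 hi' with rfl | hi'
      · exact ⟨b, hb⟩
      · obtain ⟨b', hb'⟩ := hk i' hi'
        exact ⟨Sys.τ g' b', (DFunLike.congr_fun (Sys.comm g') b').trans hb'⟩
  obtain ⟨k₁, g₁, hk₁⟩ := hgen Finset.univ
  choose b hb using fun i => hk₁ i (Finset.mem_univ i)
  let ψ : MvPolynomial (Fin m) S0 →+* Sys.R k₁ := eval₂Hom ((algebraMap A (Sys.R k₁)).comp (algebraMap S0 A)) b
  have hψ : ∀ p, Sys.ρ k₁ (ψ p) = (π p : R) := by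
    intro p
    refine DFunLike.congr_fun (?_ : (Sys.ρ k₁).toRingHom.comp ψ = (algebraMap S R).comp π.toRingHom) p
    refine MvPolynomial.ringHom_ext (fun r => ?_) fun i => ?_
    · show Sys.ρ k₁ (ψ (C r)) = (π (C r) : R)
      rw [eval₂Hom_C, RingHom.comp_apply, (Sys.ρ k₁).commutes,
        show (C r : MvPolynomial (Fin m) S0) = algebraMap S0 _ r from rfl, π.commutes,
        ← IsScalarTower.algebraMap_apply S0 A R]
      rfl
    · show Sys.ρ k₁ (ψ (X i)) = (π (X i) : R)
      rw [eval₂Hom_X', hb]
  -- the relations die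
  obtain ⟨G, hG⟩ : (RingHom.ker π.toRingHom).FG := IsNoetherian.noetherian _
  have hrel : ∀ t : Finset (MvPolynomial (Fin m) S0), (∀ p ∈ t, π p = 0) →
      ∃ (k : Sys.J) (g : Sys.Hom k₁ k) (_ : Sys.Hom j₀ k), ∀ p ∈ t, Sys.τ g (ψ p) = 0 := by
    intro t ht
    induction t using Finset.induction with
    | empty =>
      obtain ⟨k, g, -, -⟩ := Sys.surj k₁ 0
      obtain ⟨g', -⟩ := Sys.comp g₁ g
      exact ⟨k, g, g', by simp⟩
    | @insert p t _ ih =>
      obtain ⟨k, g, g₀, hk⟩ := ih fun p' hp' => ht p' (Finset.mem_insert_of_mem hp')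
      obtain ⟨l, g', hl⟩ := Sys.inj k (Sys.τ g (ψ p)) (by
        rw [← AlgHom.comp_apply, Sys.comm, hψ, ht p (Finset.mem_insert_self _ _)]; rfl)
      obtain ⟨g'', hg''⟩ := Sys.comp g g'
      obtain ⟨g₀', -⟩ := Sys.comp g₀ g'
      refine ⟨l, g'', g₀', fun p' hp' => ?_⟩
      rw [hg'', AlgHom.comp_apply]
      rcases Finset.mem_insert.1 hp' with rfl | hp'
      · exact hl
      · rw [hk p' hp', map_zero]
  obtain ⟨k, g, g₀, hk⟩ := hrel G fun p hp => RingHom.mem_ker.mp (hG ▸ Ideal.subset_span hp)
  let φ : MvPolynomial (Fin m) S0 →+* Sys.R k := (Sys.τ g).toRingHom.comp ψ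
  have hle : RingHom.ker π.toRingHom ≤ RingHom.ker φ := by
    rw [← hG, Ideal.span_le]
    exact fun p hp => hk p hp
  let σ : S →+* Sys.R k := RingHom.liftOfSurjective π.toRingHom hπ ⟨φ, hle⟩
  have hσ : ∀ p, σ (π p) = φ p := fun p => RingHom.liftOfRightInverse_comp_apply _ _ _ ⟨φ, hle⟩ p
  letI : Algebra S (Sys.R k) := σ.toAlgebra
  letI : Algebra (Sys.R k) R := (Sys.ρ k).toRingHom.toAlgebra
  haveI : IsScalarTower S (Sys.R k) R := .of_algebraMap_eq fun s => by
    obtain ⟨p, rfl⟩ := hπ s
    show (π p : R) = Sys.ρ k (σ (π p))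
    rw [hσ, ← hψ]
    exact (DFunLike.congr_fun (Sys.comm g) (ψ p)).symm
  haveI : IsScalarTower S0 S (Sys.R k) := .of_algebraMap_eq fun r => by
    show algebraMap S0 (Sys.R k) r = σ (algebraMap S0 S r)
    rw [← π.commutes, hσ]
    show algebraMap S0 (Sys.R k) r = Sys.τ g (ψ (C r))
    rw [eval₂Hom_C, RingHom.comp_apply, (Sys.τ g).commutes, ← IsScalarTower.algebraMap_apply]
  refine ⟨k, g₀, ?_⟩
  intro B' M' _ _ _ _ _ _ _ _ _ _ _ _ _ f hf β hβR hβB
  refine (hflat (Sys.R k) B' M' f hf _).mpr ?_
  rw [← hN0, locN_locN A N0, ← locN_locN S N0]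
  refine mem_flatSet_of_comap S _ _ ?_
  convert hqS using 1
  simp only [qR, ← PrimeSpectrum.comap_comp_apply]
  congr 1
  refine MvPolynomial.ringHom_ext (fun r => ?_) fun i => ?_
  · simp only [RingHom.comp_apply, AlgHom.toRingHom_eq_coe, RingHom.coe_coe, map_C, aeval_C, hβR]
    congr 1
    exact (IsScalarTower.algebraMap_apply S (Sys.R k) R r).symm
  · simp only [RingHom.comp_apply, AlgHom.toRingHom_eq_coe, RingHom.coe_coe, map_X, aeval_X, hβB]

end Groth.Agent.FlatStage
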