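import Groth.Agent.FlatStage.Point
import Groth.Agent.PullbackMod.LimOpen

/-!
# Flatness over a cofiltered limit and over its stages
-/

set_option autoImplicit false
set_option backward.isDefEq.respectTransparency false
set_option backward.defeqAttrib.useBackward true
set_option linter.style.haveILetI false
set_option linter.unusedSectionVars false

universe u

open CategoryTheory CategoryTheory.Limits AlgebraicGeometry TopologicalSpace Opposite
open Groth.Agent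

noncomputable section

namespace Groth.Agent.FlatStage

/-- Flatness of a pulled back module is stable under a further base change. -/
theorem isFlatOverAt_of_square {X₀ Z T Z' T' : Scheme.{u}} {φ : Z ⟶ T} {φ' : Z' ⟶ T'}
    {v : Z' ⟶ Z} {w : T' ⟶ T} (hsq : IsPullback v φ' φ w) (p : Z ⟶ X₀) {p' : Z' ⟶ X₀}
    (hp : v ≫ p = p') (F₀ : X₀.Modules) [Coh.IsQCoh F₀] (z : Z')
    (h : FlatMod.IsFlatOverAt φ ((Scheme.Modules.pullback p).obj F₀) (v z)) :
    FlatMod.IsFlatOverAt φ' ((Scheme.Modules.pullback p').obj F₀) z := by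
  haveI := PullbackMod.isQCoh_pullback p F₀
  exact PullbackMod.isFlatOverAt_of_iso
    ((Scheme.Modules.pullbackComp v p ≪≫ Scheme.Modules.pullbackCongr hp).app F₀) φ' z
    (PullbackMod.isFlatOverAt_baseChange hsq ((Scheme.Modules.pullback p).obj F₀) z h)

variable {I : Type u} [SmallCategory I] (D : I ⥤ Scheme.{u}) (c : Cone D) (i₀ : I)
  {X₀ Y₀ : Scheme.{u}} (f₀ : X₀ ⟶ Y₀) (g₀ : Y₀ ⟶ D.obj i₀)
  {X Y : Scheme.{u}} {f : X ⟶ Y} {g : Y ⟶ c.pt} {qY : Y ⟶ Y₀} {qX : X ⟶ X₀}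
  (hY : IsPullback qY g g₀ (c.π.app i₀)) (hX : IsPullback qX f f₀ qY)

/-- The limit is the base change of each stage. -/
lemma isPullback_vMap (k : Over i₀) :
    IsPullback (vMap D c i₀ (f₀ ≫ g₀) (hX.paste_vert hY) k) f
      ((AffLim.baseChangeMap D i₀ f₀ g₀).app k) (vMap D c i₀ g₀ hY k) := by
  refine IsPullback.of_right ?_ (xMap_comp D c i₀ g₀ hY f₀ hX k)
    (AffLim.isPullback_baseChangeMap D i₀ f₀ g₀ k)
  simpa using hX

theorem isFlatOverAt_of_stage (F₀ : X₀.Modules) [Coh.IsQCoh F₀] (k : Over i₀) (x : X)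
    (h : FlatMod.IsFlatOverAt ((AffLim.baseChangeMap D i₀ f₀ g₀).app k)
      ((Scheme.Modules.pullback (pullback.fst (f₀ ≫ g₀) (D.map k.hom))).obj F₀)
      (vMap D c i₀ (f₀ ≫ g₀) (hX.paste_vert hY) k x)) :
    FlatMod.IsFlatOverAt f ((Scheme.Modules.pullback qX).obj F₀) x :=
  isFlatOverAt_of_square (isPullback_vMap D c i₀ f₀ g₀ hY hX k) _ (vMap_fst _ _ _ _ _ k) F₀ x h

theorem isFlatOverAt_map (F₀ : X₀.Modules) [Coh.IsQCoh F₀] {l k : Over i₀} (a : l ⟶ k)
    (z : (AffLim.baseChange D i₀ (f₀ ≫ g₀)).obj l)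
    (h : FlatMod.IsFlatOverAt ((AffLim.baseChangeMap D i₀ f₀ g₀).app k)
      ((Scheme.Modules.pullback (pullback.fst (f₀ ≫ g₀) (D.map k.hom))).obj F₀)
      ((AffLim.baseChange D i₀ (f₀ ≫ g₀)).map a z)) :
    FlatMod.IsFlatOverAt ((AffLim.baseChangeMap D i₀ f₀ g₀).app l)
      ((Scheme.Modules.pullback (pullback.fst (f₀ ≫ g₀) (D.map l.hom))).obj F₀) z :=
  isFlatOverAt_of_square (AffLim.isPullback_baseChangeMap_map D i₀ f₀ g₀ a) _
    (fst_map D i₀ (f₀ ≫ g₀) a) F₀ z h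

variable [IsCofiltered I] [∀ {i j} (f : i ⟶ j), IsAffineHom (D.map f)]

include hY hX in
/-- Flatness over the limit holds at some stage. -/
theorem exists_isFlatOver (hc : IsLimit c) [CompactSpace X₀] [LocallyOfFinitePresentation f₀]
    (F₀ : X₀.Modules) [Coh.IsQCoh F₀] (hF₀ : CohB1.IsFP F₀)
    (h : FlatMod.IsFlatOver f ((Scheme.Modules.pullback qX).obj F₀)) :
    ∃ k : Over i₀, FlatMod.IsFlatOver ((AffLim.baseChangeMap D i₀ f₀ g₀).app k)
      ((Scheme.Modules.pullback (pullback.fst (f₀ ≫ g₀) (D.map k.hom))).obj F₀) := by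
  obtain ⟨hcX⟩ := nonempty_isLimit_vCone D c i₀ (f₀ ≫ g₀) (hX.paste_vert hY) hc
  let o : Over i₀ := Over.mk (𝟙 i₀)
  obtain ⟨j, hj⟩ := PullbackMod.exists_all_of_open (AffLim.baseChange D i₀ (f₀ ≫ g₀))
    (vCone D c i₀ (f₀ ≫ g₀) (hX.paste_vert hY)) hcX o
    (fun j z => FlatMod.IsFlatOverAt ((AffLim.baseChangeMap D i₀ f₀ g₀).app j.left)
      ((Scheme.Modules.pullback (pullback.fst (f₀ ≫ g₀) (D.map j.left.hom))).obj F₀) z)
    (fun j => by
      haveI : LocallyOfFinitePresentation ((AffLim.baseChangeMap D i₀ f₀ g₀).app j.left) :=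
        MorphismProperty.of_isPullback (AffLim.isPullback_baseChangeMap D i₀ f₀ g₀ j.left)
          inferInstance
      haveI := PullbackMod.isQCoh_pullback (pullback.fst (f₀ ≫ g₀) (D.map j.left.hom)) F₀
      exact FlatLocus.isOpen_isFlatOverAt _ _ (PullbackMod.isFP_pullback _ F₀ hF₀))
    (fun {j k} a z hz => isFlatOverAt_map D i₀ f₀ g₀ F₀ a.left z hz)
    (fun x => by
      obtain ⟨k, a, hk⟩ := exists_isFlatOverAt D c i₀ g₀ hY hc f₀ hX F₀ hF₀ x o (h x)
      exact ⟨Over.mk a, hk⟩)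
  exact ⟨j.left, hj⟩

end Groth.Agent.FlatStage

end
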